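import Mathlib
import Cfsg.Agent.Lib.Helper56.TC
import Cfsg.Agent.Lib.Helper56.Fi22U7.D
set_option autoImplicit false
set_option maxRecDepth 1000000

namespace Cfsg.Agent.Lib.Helper56.Fi22U7

open Cfsg.Agent.Lib.Helper56.TC Cfsg.Agent.Lib.Helper56.TC.Tabs

theorem cN_0 : allRange (fun x => forceN T.chkName x) 0 587 = true := by decide +kernel
theorem cN_587 : allRange (fun x => forceN T.chkName x) 587 589 = true := by decide +kernel
theorem cN_1176 : allRange (fun x => forceN T.chkName x) 1176 597 = true := by decide +kernel
theorem cN_1773 : allRange (fun x => forceN T.chkName x) 1773 600 = true := by decide +kernel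
theorem cN_2373 : allRange (fun x => forceN T.chkName x) 2373 607 = true := by decide +kernel
theorem cN_2980 : allRange (fun x => forceN T.chkName x) 2980 675 = true := by decide +kernel
theorem cN_3655 : allRange (fun x => forceN T.chkName x) 3655 725 = true := by decide +kernel
theorem cN_4380 : allRange (fun x => forceN T.chkName x) 4380 732 = true := by decide +kernel
theorem cN_5112 : allRange (fun x => forceN T.chkName x) 5112 737 = true := by decide +kernel
theorem cN_5849 : allRange (fun x => forceN T.chkName x) 5849 269 = true := by decide +kernel
theorem cV_0 : allRange (fun x => forceN T.chkV x) 0 465 = true := by decide +kernel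
theorem cV_465 : allRange (fun x => forceN T.chkV x) 465 465 = true := by decide +kernel

end Cfsg.Agent.Lib.Helper56.Fi22U7
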